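import Groth.Agent.AbSch.K422.GenPt
import Groth.Agent.AgPol.K515.QuotAb
import Groth.Agent.S0346

/-!
# Extension of finite flat quotients of the generic fibre of an abelian scheme

`exists_quot_extend`: a finite flat quotient of the generic fibre of an abelian scheme over a normal Noetherian
integral scheme extends over an open subscheme containing all points of codimension at most one.
-/

set_option autoImplicit false
universe u

open CategoryTheory CategoryTheory.Limits AlgebraicGeometry MonObj MonoidalCategory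
  CartesianMonoidalCategory GrpObj

namespace K422.QuotExt

open K491.Closure Groth.Agent.Sga3C.SchemImage Groth.Agent.Sga3C.FlatPt K422.GenPt K422.DenseSub

/-- The kernel of a finite flat surjective homomorphism over a field is finite and killed by its rank. -/
theorem exists_finite_kernel {K : Type u} [Field K] {G B' : Over (Spec (CommRingCat.of K))} [GrpObj G]
    [IsCommMonObj G] [GrpObj B'] (lam' : G ⟶ B') [IsMonHom lam'] [IsFinite lam'.left] [Flat lam'.left] :
    ∃ (HK : Over (Spec (CommRingCat.of K))) (_ : GrpObj HK) (i : HK ⟶ G) (n : ℕ), IsMonHom i ∧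
      AlgGrp.IsKernel i lam' ∧ IsClosedImmersion i.left ∧ IsFinite HK.hom ∧ Flat HK.hom ∧ 1 ≤ n ∧ i ^ n = 1 := by
  obtain ⟨HK, hgrp, i, hmon, hi⟩ := exists_kernel lam'
  have hsq : IsPullback i.left (toUnit HK).left lam'.left (η[B'] : 𝟙_ _ ⟶ B').left :=
    IsPullback.map (Over.forget _) hi
  have htu : (toUnit HK).left = HK.hom := by
    simp
  have hηcl : IsClosedImmersion (η[B'] : 𝟙_ _ ⟶ B').left := inferInstance
  have h1 : IsClosedImmersion i.left := MorphismProperty.of_isPullback hsq.flip hηcl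
  have h2 : IsFinite (toUnit HK).left := MorphismProperty.of_isPullback hsq inferInstance
  have h3 : Flat (toUnit HK).left := MorphismProperty.of_isPullback hsq inferInstance
  rw [htu] at h2 h3
  have himono : Mono i := (Over.forget _).mono_of_mono_map (inferInstanceAs (Mono i.left))
  have hcomm : IsCommMonObj HK := isCommMonObj_of_mono i
  have hlfp : LocallyOfFinitePresentation HK.hom := inferInstance
  let n : ℕ := Scheme.Hom.finrank HK.hom (IsLocalRing.closedPoint K)
  have hn : ∀ s, Scheme.Hom.finrank HK.hom s = n := fun s => by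
    have : s = IsLocalRing.closedPoint K := Subsingleton.elim _ _
    rw [this]
  have hn1 : 1 ≤ n := by
    let y : HK.left := (η[HK] : 𝟙_ _ ⟶ HK).left (IsLocalRing.closedPoint K)
    have := Scheme.Hom.one_le_finrank_map HK.hom y
    rwa [hn] at this
  refine ⟨HK, hgrp, i, n, hmon, hi, h1, h2, h3, hn1, ?_⟩
  have h4 := K267.DeligneSch.pow_eq_one HK n hn HK (𝟙 HK)
  have h5 : (𝟙 HK ^ n) ≫ i = (𝟙 HK ≫ i) ^ n := MonObj.pow_comp _ _ _
  rw [Category.id_comp, h4, MonObj.one_comp] at h5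
  exact h5.symm

section

variable {S : Scheme.{u}} [IsIntegral S] [IsNoetherian S] {K : Type u} [Field K]
  (ξ : Spec (CommRingCat.of K) ⟶ S)

/-- Multiplication by `n ≥ 1` on an abelian scheme is finite. -/
theorem isFinite_pow {S : Scheme.{u}} (A : Over S) [GrpObj A] {g : ℕ} (hA : AgPol.IsAbSch A g) {n : ℕ}
    (hn : 1 ≤ n) : IsFinite (𝟙 A ^ (n : ℤ)).left := by
  have h1 := hA.smooth
  have h2 := hA.proper
  have h3 := hA.geomConnected
  have h4 : GeometricallyReduced A.hom := Groth.Agent.Flat2B.SmoothGeom.geometricallyReduced_of_smooth A.hom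
  exact (Groth.Agent.S7788.result A (fun _ => g) hA.fibreDim n (by omega)).1

/-- The closure of a finite subscheme killed by `n ≥ 1` of the generic fibre of an abelian scheme is finite. -/
theorem isFinite_image (hξ : IsGenPt ξ) (A : Over S) [GrpObj A] {g : ℕ} (hA : AgPol.IsAbSch A g)
    {HK : Over (Spec (CommRingCat.of K))} (i : HK ⟶ Red.bc ξ A) [IsClosedImmersion i.left] {n : ℕ} (hn : 1 ≤ n)
    (hin : i ^ n = 1) :
    IsFinite ((i.left ≫ pullback.fst A.hom ξ).imageι ≫ A.hom) := by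
  have hproper := hA.proper
  have hm := mono hξ
  have hqc : QuasiCompact ξ := quasiCompact ξ
  have hdom := dominant hξ
  let f : HK.left ⟶ A.left := i.left ≫ pullback.fst A.hom ξ
  have hfqc : QuasiCompact f := inferInstance
  have hτ : IsSchemeTheoreticallyDominant f.toImage := dominant_toImage f
  let ρ : f.image ⟶ S := f.imageι ≫ A.hom
  have h1 : (i ≫ (𝟙 (Red.bc ξ A) ^ (n : ℤ))) = 1 := by
    rw [zpow_natCast, MonObj.comp_pow, Category.comp_id, hin]
  have h2 : f ≫ (𝟙 A ^ (n : ℤ)).left = HK.hom ≫ ξ ≫ (η[A] : 𝟙_ _ ⟶ A).left := by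
    have h3 := K258.AbBC.zpow_pr ξ A (n : ℤ)
    have h4 := K258.AbBC.unit_pr ξ A
    have h5 : i.left ≫ (𝟙 (Red.bc ξ A) ^ (n : ℤ)).left = HK.hom ≫ (η[Red.bc ξ A] : 𝟙_ _ ⟶ _).left := by
      rw [← Over.comp_left, h1, Hom.one_def, Over.comp_left]
      simp
    calc f ≫ (𝟙 A ^ (n : ℤ)).left = i.left ≫ (pullback.fst A.hom ξ ≫ (𝟙 A ^ (n : ℤ)).left) := Category.assoc _ _ _
      _ = i.left ≫ ((𝟙 (Red.bc ξ A) ^ (n : ℤ)).left ≫ pullback.fst A.hom ξ) := by rw [← h3]
      _ = (i.left ≫ (𝟙 (Red.bc ξ A) ^ (n : ℤ)).left) ≫ pullback.fst A.hom ξ := (Category.assoc _ _ _).symm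
      _ = (HK.hom ≫ (η[Red.bc ξ A] : 𝟙_ _ ⟶ _).left) ≫ pullback.fst A.hom ξ := by rw [h5]
      _ = HK.hom ≫ ((η[Red.bc ξ A] : 𝟙_ _ ⟶ _).left ≫ pullback.fst A.hom ξ) := Category.assoc _ _ _
      _ = _ := congrArg (fun z => HK.hom ≫ z) h4
  have h3 : f.imageι ≫ (𝟙 A ^ (n : ℤ)).left = ρ ≫ (η[A] : 𝟙_ _ ⟶ A).left := by
    refine K491.Ext.eq_of_comp_eq ρ A.hom f.toImage _ _ ?_ ?_ ?_
    · rw [Category.assoc, Over.w]
    · rw [Category.assoc, Over.w]
      exact Category.comp_id _
    · rw [Scheme.Hom.toImage_imageι_assoc, h2]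
      have h4 : f ≫ A.hom = HK.hom ≫ ξ := by
        simp only [f, Category.assoc, pullback.condition]
        rw [← Over.w i]
        rfl
      simp only [ρ]
      rw [Category.assoc, Scheme.Hom.toImage_imageι_assoc, reassoc_of% h4]
  have h4 : IsFinite (𝟙 A ^ (n : ℤ)).left := isFinite_pow A hA hn
  have h5 : IsFinite (ρ ≫ (η[A] : 𝟙_ _ ⟶ A).left) := by
    rw [← h3]
    infer_instance
  have h6 : IsSeparated (η[A] : 𝟙_ _ ⟶ A).left := by
    have h7 : (η[A] : 𝟙_ _ ⟶ A).left ≫ A.hom = 𝟙 _ := Over.w _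
    have : IsSplitMono (η[A] : 𝟙_ _ ⟶ A).left := IsSplitMono.mk' ⟨A.hom, h7⟩
    infer_instance
  exact IsFinite.of_comp ρ (η[A] : 𝟙_ _ ⟶ A).left

/-- The flat locus of the base: the complement of the image of the non-flat locus of a finite morphism. -/
theorem exists_flat_open (hS : Pi1.IsNormalScheme S) (hξ : IsGenPt ξ) {X Y : Scheme.{u}} (t : X ⟶ Y)
    [QuasiCompact t] [IsSchemeTheoreticallyDominant t] (ρ : Y ⟶ S) [IsFinite ρ]
    (p : X ⟶ Spec (CommRingCat.of K)) (h : t ≫ ρ = p ≫ ξ) :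
    ∃ V : S.Opens, (∀ x : S, ringKrullDim (S.presheaf.stalk x) ≤ 1 → x ∈ V) ∧ Flat (pullback.snd ρ V.ι) := by
  have h1 : IsOpen {y : Y | (ρ.stalkMap y).hom.Flat} := Groth.Agent.Sga3C.QFlatOpen.isOpen_flatLocus ρ
  have h2 : IsClosed (ρ '' {y : Y | (ρ.stalkMap y).hom.Flat}ᶜ) := ρ.isClosedMap _ h1.isClosed_compl
  let V : S.Opens := ⟨(ρ '' {y : Y | (ρ.stalkMap y).hom.Flat}ᶜ)ᶜ, h2.isOpen_compl⟩
  refine ⟨V, fun x hx => ?_, flat_of_forall_isFlatAt _ fun z => ?_⟩
  · rintro ⟨y, hy, rfl⟩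
    exact hy ((isFlatAt_iff_stalkMap ρ y).mp (isFlatAt_of_dominant hS hξ t ρ p h y hx))
  · refine IsFlatAt.of_isPullback (IsPullback.of_hasPullback ρ V.ι) z ?_
    by_contra hcon
    have h3 : V.ι (pullback.snd ρ V.ι z) ∈ V := (pullback.snd ρ V.ι z).2
    rw [← Scheme.Hom.comp_apply, ← pullback.condition, Scheme.Hom.comp_apply] at h3
    exact h3 ⟨_, fun h4 => hcon ((isFlatAt_iff_stalkMap ρ _).mpr h4), rfl⟩

omit [AlgebraicGeometry.IsNoetherian S] in
theorem exists_lift_open (hξ : IsGenPt ξ) (V : S.Opens)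
    (hV : ∀ x : S, ringKrullDim (S.presheaf.stalk x) ≤ 1 → x ∈ V) :
    ∃ ξV : Spec (CommRingCat.of K) ⟶ V, ξV ≫ V.ι = ξ := by
  have h1 : genericPoint S ∈ V := hV _ (by
    have h2 : ringKrullDim S.functionField = 0 := ringKrullDim_eq_zero_of_field _
    change ringKrullDim S.functionField ≤ 1
    rw [h2]
    exact zero_le_one)
  refine ⟨IsOpenImmersion.lift V.ι ξ ?_, IsOpenImmersion.lift_fac _ _ _⟩
  rintro _ ⟨p, rfl⟩
  rw [Scheme.Opens.range_ι, apply hξ]
  exact h1

end

theorem tow_fst {S T U : Scheme.{u}} {q : T ⟶ S} {p : U ⟶ T} {h : U ⟶ S} (e : p ≫ q = h) (X : Over S) :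
    (K509.Basic.tow e X).hom.left ≫ pullback.fst (pullback.snd X.hom q) p ≫ pullback.fst X.hom q =
      pullback.fst X.hom h := by
  have h0 : ((Over.pullbackComp p q).hom.app X).left ≫ pullback.fst (pullback.snd X.hom q) p ≫
      pullback.fst X.hom q = pullback.fst X.hom (p ≫ q) := by
    have h := conjugateEquiv_counit (Over.mapPullbackAdj (p ≫ q))
      ((Over.mapPullbackAdj p).comp (Over.mapPullbackAdj q)) (Over.mapComp p q).inv X
    have h2 := congrArg (fun z => z.left) h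
    simp at h2
    exact h2
  subst e
  rw [K509.Basic.tow_hom, Over.comp_left, Category.assoc, h0]
  exact Category.id_comp _

/-- The job statement of node QUOTEXT of S14325. -/
theorem exists_quot_extend {S : Scheme.{u}} [IsIntegral S] [IsNoetherian S] (hS : Pi1.IsNormalScheme S)
    {K : Type u} [Field K] (ξ : Spec (CommRingCat.of K) ⟶ S) (hξ : IsGenPt ξ)
    (A : Over S) [GrpObj A] [IsCommMonObj A] {g : ℕ} (hA : AgPol.IsAbSch A g)
    (L : A.left.Modules) (hL : RelAmple.IsRelAmple A.hom L)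
    (B' : Over (Spec (CommRingCat.of K))) [GrpObj B'] (lam' : Red.bc ξ A ⟶ B') [IsMonHom lam']
    (hfin : IsFinite lam'.left) (hflat : Flat lam'.left) (hsurj : Surjective lam'.left) :
    ∃ (V : S.Opens) (ξV : Spec (CommRingCat.of K) ⟶ V) (B : Over (V : Scheme.{u})) (_ : GrpObj B)
      (_ : IsCommMonObj B) (lam : Red.bc V.ι A ⟶ B) (b : B'.left ⟶ B.left)
      (α : (Red.bc ξ A).left ⟶ (Red.bc V.ι A).left),
      (∀ x : S, ringKrullDim (S.presheaf.stalk x) ≤ 1 → x ∈ V) ∧ ξV ≫ V.ι = ξ ∧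
      AgPol.IsAbSch B g ∧ IsMonHom lam ∧ IsFinite lam.left ∧ Flat lam.left ∧ Surjective lam.left ∧
      IsPullback b B'.hom B.hom ξV ∧
      α ≫ pullback.fst A.hom V.ι = pullback.fst A.hom ξ ∧
      α ≫ pullback.snd A.hom V.ι = pullback.snd A.hom ξ ≫ ξV ∧
      lam'.left ≫ b = α ≫ lam.left := by
  have hproper := hA.proper
  have hm := mono hξ
  have hqc : QuasiCompact ξ := quasiCompact ξ
  have hdom := dominant hξ
  have hξflat := flat hξ
  have hcommbc : IsCommMonObj (Red.bc ξ A) := inferInstance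
  obtain ⟨HK, hgrp, i, n, hmon, hi, hicl, hHKfin, hHKflat, hn, hin⟩ := exists_finite_kernel lam'
  let f : HK.left ⟶ A.left := i.left ≫ pullback.fst A.hom ξ
  have hfqc : QuasiCompact f := inferInstance
  have hτ : IsSchemeTheoreticallyDominant f.toImage := dominant_toImage f
  let ρ : f.image ⟶ S := f.imageι ≫ A.hom
  have hρ : IsFinite ρ := isFinite_image ξ hξ A hA i hn hin
  have hτρ : f.toImage ≫ ρ = HK.hom ≫ ξ := by
    simp only [ρ, Scheme.Hom.toImage_imageι_assoc, f, Category.assoc, pullback.condition]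
    rw [← Over.w i]
    rfl
  obtain ⟨V, hV, hVflat⟩ := exists_flat_open ξ hS hξ f.toImage ρ HK.hom hτρ
  obtain ⟨ξV, hξV⟩ := exists_lift_open ξ hξ V hV
  have hξVm : Mono ξV := by
    have : Mono (ξV ≫ V.ι) := by rw [hξV]; exact hm
    exact mono_of_mono ξV V.ι
  have hξVf : Flat ξV := by
    have : Flat (ξV ≫ V.ι) := by rw [hξV]; exact hξflat
    exact flat_of_comp_mono ξV V.ι
  obtain ⟨hξVdom, hξVqc⟩ := dominant_lift ξ V.ι ξV hξV
  let G : Over (V : Scheme.{u}) := Red.bc V.ι A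
  let H : Over (V : Scheme.{u}) := Red.bc V.ι (Over.mk ρ)
  let j0 : Over.mk ρ ⟶ A := Over.homMk f.imageι rfl
  let j : H ⟶ G := (Over.pullback V.ι).map j0
  have hjcl : IsClosedImmersion j.left := K509.Basic.map_left_of_stable @IsClosedImmersion V.ι j0
    (inferInstanceAs (IsClosedImmersion f.imageι))
  have hHfin : IsFinite H.hom := inferInstanceAs (IsFinite (pullback.snd ρ V.ι))
  have hHflat : Flat H.hom := hVflat
  have hHlfp : LocallyOfFinitePresentation H.hom := inferInstance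
  let tl : HK.left ⟶ pullback ρ V.ι := pullback.lift f.toImage (HK.hom ≫ ξV) (by
    rw [Category.assoc, hξV, hτρ])
  have htl1 : tl ≫ pullback.fst ρ V.ι = f.toImage := pullback.lift_fst _ _ _
  have htl2 : tl ≫ pullback.snd ρ V.ι = HK.hom ≫ ξV := pullback.lift_snd _ _ _
  obtain ⟨htdom, htqc⟩ := dominant_lift f.toImage (pullback.fst ρ V.ι) tl htl1
  let t : (Over.map ξV).obj HK ⟶ H := Over.homMk tl htl2
  have htdom' : IsSchemeTheoreticallyDominant t.left := htdom
  have htqc' : QuasiCompact t.left := htqc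
  let θ : Red.bc ξ A ≅ Red.bc ξV G := K509.Basic.tow hξV A
  have hθ : IsMonHom θ.hom := K509.Basic.isMonHom_tow_hom hξV A
  have hθf : θ.hom.left ≫ pullback.fst G.hom ξV ≫ pullback.fst A.hom V.ι = pullback.fst A.hom ξ :=
    tow_fst hξV A
  have hθs : θ.hom.left ≫ pullback.fst G.hom ξV ≫ G.hom = (Red.bc ξ A).hom ≫ ξV := by
    rw [pullback.condition, ← Over.w θ.hom, Category.assoc]
    rfl
  have hj1 : j.left ≫ pullback.fst A.hom V.ι = pullback.fst ρ V.ι ≫ f.imageι := pullback.lift_fst _ _ _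
  have htj : t ≫ j = dn ξV (i ≫ θ.hom) := by
    ext1
    rw [Over.comp_left, dn_left, Over.comp_left, Category.assoc]
    have h1 : tl ≫ j.left = i.left ≫ θ.hom.left ≫ pullback.fst G.hom ξV := by
      apply pullback.hom_ext
      · rw [Category.assoc, hj1, reassoc_of% htl1, Scheme.Hom.toImage_imageι, Category.assoc, Category.assoc, hθf]
      · have h2 : j.left ≫ pullback.snd A.hom V.ι = pullback.snd ρ V.ι := Over.w j
        rw [Category.assoc, h2, htl2, Category.assoc, Category.assoc]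
        refine Eq.trans ?_ (congrArg (fun z => i.left ≫ z) hθs).symm
        rw [← Category.assoc, Over.w i]
    exact h1
  obtain ⟨hHgrp, hjmon⟩ := exists_grp ξV (i ≫ θ.hom) H j t htj
  have hG : AgPol.IsAbSch G g := K258.AbBC.isAbSch V.ι A hA
  have hcommG : IsCommMonObj G := inferInstanceAs (IsCommMonObj (Red.bc V.ι A))
  obtain ⟨M, gM, cM, q, hqmon, hqfin, hqflat, hqlfp, hqsurj, hMab, hker, -, hq, -⟩ :=
    K515.QuotAb.exists_quot j hG _ (K258.AbBC.amp V.ι hL)
  have hcl2 : IsClosedImmersion (i ≫ θ.hom).left := by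
    have : IsIso θ.hom.left := inferInstanceAs (IsIso ((Over.forget _).map θ.hom))
    rw [Over.comp_left]
    infer_instance
  have hjy : (t.left ≫ j.left) ≫ G.hom = HK.hom ≫ ξV := by
    rw [Category.assoc, Over.w j]
    exact htl2
  have hlift : pullback.lift (t.left ≫ j.left) HK.hom hjy = (i ≫ θ.hom).left := by
    apply pullback.hom_ext
    · rw [pullback.lift_fst, ← dn_left, ← htj]
      rfl
    · rw [pullback.lift_snd]
      exact (Over.w (i ≫ θ.hom)).symm
  have hcl3 : IsClosedImmersion (pullback.lift (t.left ≫ j.left) HK.hom hjy) := by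
    rw [hlift]; exact hcl2
  have hpb0 := isPullback_of_dom ξV G.hom HK.hom t.left j.left hjy
  have hpb : IsPullback t.left HK.hom H.hom ξV := by
    have h1 : j.left ≫ G.hom = H.hom := Over.w j
    rw [h1] at hpb0
    exact hpb0
  obtain ⟨b, hb, hlb⟩ := exists_compare ξV q j hq θ lam' i hi t htj hpb
  refine ⟨V, ξV, M, gM, cM, q, b, θ.hom.left ≫ pullback.fst G.hom ξV, hV, hξV, hMab, hqmon, hqfin, hqflat,
    hqsurj, hb, ?_, ?_, hlb⟩
  · rw [Category.assoc]
    exact hθf
  · rw [Category.assoc]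
    exact hθs

end K422.QuotExt
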