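import Groth.Agent.Neron.K491.Closure
import Groth.Agent.AbVar.K509.Basic
import Groth.Agent.AlgGrp.K404.Desc
import Groth.Prelude.Def_AlgGrp

/-!
# Subgroups with schematically dense generic fibre, and comparison of quotients

`g : T ⟶ S` a flat quasi-compact monomorphism (for example the generic point).

* `isPullback_of_dom` : a closed subscheme `H ⊆ Y` in which a closed subscheme of `Y_T` is schematically dense;
* `exists_grp` : if `H` is a flat closed subscheme of the group `G` and a subgroup of `G_T` is schematically dense in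
  it then `H` is a subgroup;
* `exists_kernel` : kernels;
* `exists_compare` : if `q : G ⟶ M` is a quotient by `H` then `M_T` is any quotient of `G_T` by the subgroup.
-/

set_option autoImplicit false
universe u

open CategoryTheory CategoryTheory.Limits AlgebraicGeometry MonObj MonoidalCategory
  CartesianMonoidalCategory GrpObj

namespace K422.DenseSub

open K491.Closure Groth.Agent.Sga3C.SchemImage

theorem isPullback_of_dom {S T X H Y : Scheme.{u}} (g : T ⟶ S) [Flat g] [Mono g] [QuasiCompact g]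
    (y : Y ⟶ S) (p : X ⟶ T) (t : X ⟶ H) (j : H ⟶ Y) [IsClosedImmersion j] [QuasiCompact t]
    [IsSchemeTheoreticallyDominant t] (hj : (t ≫ j) ≫ y = p ≫ g)
    [IsClosedImmersion (pullback.lift (t ≫ j) p hj)] : IsPullback t p (j ≫ y) g := by
  have hw : t ≫ j ≫ y = p ≫ g := by rw [← hj, Category.assoc]
  let c : X ⟶ pullback (j ≫ y) g := pullback.lift t p hw
  have hc1 : c ≫ pullback.fst (j ≫ y) g = t := pullback.lift_fst _ _ _
  have hc2 : c ≫ pullback.snd (j ≫ y) g = p := pullback.lift_snd _ _ _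
  have hmono : Mono (pullback.fst (j ≫ y) g) := inferInstance
  have hsq : IsPullback (𝟙 X) c t (pullback.fst (j ≫ y) g) := by
    refine ⟨⟨by rw [Category.id_comp, hc1]⟩, ⟨PullbackCone.IsLimit.mk _ (fun s => s.fst) ?_ ?_ ?_⟩⟩
    · intro s; simp
    · intro s
      rw [← cancel_mono (pullback.fst (j ≫ y) g), Category.assoc, hc1, s.condition]
    · intro s m h1 h2
      simpa using h1
  have hcdom : IsSchemeTheoreticallyDominant c := .of_isPullback hsq
  let d : pullback (j ≫ y) g ⟶ pullback y g :=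
    pullback.lift (pullback.fst _ _ ≫ j) (pullback.snd _ _) (by
      rw [Category.assoc, pullback.condition])
  have hd1 : d ≫ pullback.fst y g = pullback.fst _ _ ≫ j := pullback.lift_fst _ _ _
  have hd2 : d ≫ pullback.snd y g = pullback.snd _ _ := pullback.lift_snd _ _ _
  have hdsq : IsPullback (pullback.fst (j ≫ y) g) d j (pullback.fst y g) := by
    refine IsPullback.of_bot ?_ hd1.symm (IsPullback.of_hasPullback y g)
    rw [hd2]
    exact IsPullback.of_hasPullback (j ≫ y) g
  have hdci : IsClosedImmersion d := MorphismProperty.of_isPullback hdsq inferInstance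
  have hcd : c ≫ d = pullback.lift (t ≫ j) p hj := by
    apply pullback.hom_ext
    · rw [Category.assoc, hd1, reassoc_of% hc1, pullback.lift_fst]
    · rw [Category.assoc, hd2, hc2, pullback.lift_snd]
  have hcci : IsClosedImmersion c := by
    have : IsClosedImmersion (c ≫ d) := by rw [hcd]; infer_instance
    exact IsClosedImmersion.of_comp_isClosedImmersion c d
  have hciso : IsIso c := IsClosedImmersion.isIso_iff_ker_eq_bot.mpr hcdom.ker_eq_bot
  exact IsPullback.of_iso_pullback ⟨hw⟩ (asIso c) hc1 hc2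

/-- The base change of a schematically dominant morphism along a flat monomorphism through which it factors. -/
theorem dominant_lift {X Y P : Scheme.{u}} (t : X ⟶ Y) [QuasiCompact t] [IsSchemeTheoreticallyDominant t]
    (m : P ⟶ Y) [Mono m] [Flat m] (t' : X ⟶ P) (ht : t' ≫ m = t) :
    IsSchemeTheoreticallyDominant t' ∧ QuasiCompact t' := by
  have hsq : IsPullback (𝟙 X) t' t m := by
    refine ⟨⟨by rw [Category.id_comp, ht]⟩, ⟨PullbackCone.IsLimit.mk _ (fun s => s.fst) ?_ ?_ ?_⟩⟩
    · intro s; simp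
    · intro s
      rw [← cancel_mono m, Category.assoc, ht, s.condition]
    · intro s m h1 h2
      simpa using h1
  exact ⟨.of_isPullback hsq, MorphismProperty.of_isPullback hsq inferInstance⟩

section grp

variable {S T : Scheme.{u}} (g : T ⟶ S) [Flat g] [Mono g]

/-- A flat closed subscheme in which a subgroup of the generic fibre is schematically dense is a subgroup. -/
theorem exists_grp [IsSchemeTheoreticallyDominant g] {G : Over S} [GrpObj G] {HK : Over T} [GrpObj HK]
    (i : HK ⟶ Red.bc g G) [IsMonHom i] (H : Over S) (j : H ⟶ G) [IsClosedImmersion j.left]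
    (t : (Over.map g).obj HK ⟶ H) (htj : t ≫ j = dn g i) [htdom : IsSchemeTheoreticallyDominant t.left]
    [htqc : QuasiCompact t.left] [hHflat : Flat H.hom] [Flat HK.hom] : ∃ _ : GrpObj H, IsMonHom j := by
  have hjm : Mono j := (Over.forget _).mono_of_mono_map (inferInstanceAs (Mono j.left))
  let HK' : Over S := (Over.map g).obj HK
  have hHKflat : Flat HK'.hom := by
    change Flat (HK.hom ≫ g)
    infer_instance
  let t' : HK' ⟶ H := t
  -- the unit
  have hone : ∃ e : 𝟙_ (Over S) ⟶ H, e ≫ j = η[G] := by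
    let X : Over S := (Over.map g).obj (𝟙_ (Over T))
    let u : X ⟶ 𝟙_ (Over S) := toUnit X
    have hu : u.left = g := by
      have h1 : u.left ≫ 𝟙 _ = 𝟙 _ ≫ g := Over.w u
      rwa [Category.comp_id, Category.id_comp] at h1
    have hud : IsSchemeTheoreticallyDominant u.left := by rw [hu]; infer_instance
    refine exists_lift_over u η[G] j ((Over.map g).map η[HK] ≫ t') ?_
    rw [Category.assoc, htj, dn_comp, IsMonHom.one_hom]
    have h2 : (η[Red.bc g G] : 𝟙_ _ ⟶ Red.bc g G) = 1 :=
      MonObj.one_eq_one _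
    rw [h2, dn_one]
    exact Hom.one_def
  have hinv : ∃ w : H ⟶ H, w ≫ j = j ≫ ι[G] := by
    refine exists_lift_over t' (j ≫ ι[G]) j ((Over.map g).map ι[HK] ≫ t') ?_
    rw [Category.assoc, htj, dn_comp, ← Category.assoc t', htj]
    have h2 : ι[HK] ≫ i = i⁻¹ := GrpObj.inv_hom i
    rw [h2, dn_inv]
    exact Hom.inv_def _
  have hmul : ∃ m : H ⊗ H ⟶ H, m ≫ j = (j ⊗ₘ j) ≫ μ[G] := by
    have hdom : IsSchemeTheoreticallyDominant (t' ⊗ₘ t').left := by
      rw [MonoidalCategory.tensorHom_def, Over.comp_left]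
      have h1 := dominant_whiskerRight t' HK'
      have h2 := dominant_whiskerLeft t' H
      have h3 := quasiCompact_whiskerRight t' HK'
      have h1' : IsSchemeTheoreticallyDominant (t' ▷ HK').left := h1
      have h2' : IsSchemeTheoreticallyDominant (H ◁ t').left := h2
      infer_instance
    let T' : Over T := Over.mk ((fst HK' HK').left ≫ HK.hom)
    let a : T' ⟶ HK := Over.homMk (fst HK' HK').left rfl
    let b : T' ⟶ HK := Over.homMk (snd HK' HK').left (by
      rw [← cancel_mono g]
      have h1 := Over.w (fst HK' HK')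
      have h2 := Over.w (snd HK' HK')
      rw [← h1] at h2
      simpa [T', HK'] using h2)
    let e : HK' ⊗ HK' ⟶ (Over.map g).obj T' := Over.homMk (𝟙 _) (by
      simp [T', HK'])
    have hea : e ≫ (Over.map g).map a = fst HK' HK' := by
      ext1; simp [e, a]
    have heb : e ≫ (Over.map g).map b = snd HK' HK' := by
      ext1; simp [e, b]
    refine exists_lift_over (t' ⊗ₘ t') ((j ⊗ₘ j) ≫ μ[G]) j
      (e ≫ (Over.map g).map (a * b) ≫ t') ?_
    rw [Category.assoc, Category.assoc, htj, dn_comp, MonObj.mul_comp, dn_mul, MonObj.comp_mul,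
      ← dn_comp, ← dn_comp, reassoc_of% hea, reassoc_of% heb, ← htj, tensorHom_comp_tensorHom_assoc,
      Hom.mul_def]
    congr 1
  obtain ⟨hgrp, hmon⟩ := Groth.Agent.Sga3C.SubGrp.exists_grpObj_of_mono j hmul hone hinv
  exact ⟨hgrp, hmon⟩

end grp

/-- Kernels of homomorphisms of group schemes. -/
theorem exists_kernel {S : Scheme.{u}} {G H : Over S} [GrpObj G] [GrpObj H] (f : G ⟶ H) [IsMonHom f] :
    ∃ (N : Over S) (_ : GrpObj N) (i : N ⟶ G), IsMonHom i ∧ AlgGrp.IsKernel i f := by
  let N : Over S := Limits.pullback f η[H]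
  let i : N ⟶ G := pullback.fst f η[H]
  have hsq : IsPullback i (toUnit N) f η[H] := by
    have h := IsPullback.of_hasPullback f η[H]
    rwa [toUnit_unique (pullback.snd f η[H]) (toUnit _)] at h
  have hm : Mono i := K404.Desc.mono_ker hsq
  have h1 : i ≫ f = 1 := K404.Desc.ker_eq_one hsq
  have hmul : ∃ m : N ⊗ N ⟶ N, m ≫ i = (i ⊗ₘ i) ≫ μ[G] := by
    refine K404.Desc.exists_lift_ker hsq _ ?_
    have h2 : (i ⊗ₘ i) ≫ μ[G] = (fst N N ≫ i) * (snd N N ≫ i) := by
      rw [Hom.mul_def]
      congr 1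
    rw [h2, MonObj.mul_comp, Category.assoc, Category.assoc, h1, MonObj.comp_one, MonObj.comp_one,
      _root_.mul_one]
  have hone : ∃ e : 𝟙_ (Over S) ⟶ N, e ≫ i = η[G] := by
    refine K404.Desc.exists_lift_ker hsq _ ?_
    rw [IsMonHom.one_hom]
    exact MonObj.one_eq_one _
  have hinv : ∃ w : N ⟶ N, w ≫ i = i ≫ ι[G] := by
    refine K404.Desc.exists_lift_ker hsq _ ?_
    have h2 : i ≫ ι[G] = i⁻¹ := (Hom.inv_def _).symm
    rw [h2, GrpObj.inv_comp, h1, inv_one]
  obtain ⟨hgrp, hmon⟩ := Groth.Agent.Sga3C.SubGrp.exists_grpObj_of_mono i hmul hone hinv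
  exact ⟨N, hgrp, i, hmon, hsq⟩

theorem isCommMonObj_of_mono {S : Scheme.{u}} {F G : Over S} [GrpObj F] [GrpObj G] [IsCommMonObj G]
    (i : F ⟶ G) [IsMonHom i] [Mono i] : IsCommMonObj F := by
  constructor
  rw [← cancel_mono i, Category.assoc, IsMonHom.mul_hom, ← Category.assoc, ← BraidedCategory.braiding_naturality,
    Category.assoc, IsCommMonObj.mul_comm]

section compare

variable {S T : Scheme.{u}} (g : T ⟶ S)

theorem dn_injective {G : Over S} {T' : Over T} {x y : T' ⟶ Red.bc g G} (h : dn g x = dn g y) : x = y :=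
  ((Over.mapPullbackAdj g).homEquiv T' G).symm.injective h

theorem dn_map {G M : Over S} (q : G ⟶ M) {T' : Over T} (x : T' ⟶ Red.bc g G) :
    dn g (x ≫ (Over.pullback g).map q) = dn g x ≫ q :=
  Adjunction.homEquiv_naturality_right_symm _ _ _

/-- The quotient of the generic fibre is the generic fibre of the quotient. -/
theorem exists_compare {G M : Over S} [GrpObj G] (q : G ⟶ M) [QuasiCompact q.left]
    [Flat q.left] [Surjective q.left] {H : Over S} (j : H ⟶ G)
    (hq : ∀ {T' : Over S} (a b : T' ⟶ G), a ≫ q = b ≫ q ↔ ∃ c : T' ⟶ H, c ≫ j = a * b⁻¹)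
    {GK B' HK : Over T} [GrpObj GK] [GrpObj B'] (θ : GK ≅ Red.bc g G) [IsMonHom θ.hom]
    (lam' : GK ⟶ B') [IsMonHom lam'] [QuasiCompact lam'.left] [Flat lam'.left] [Surjective lam'.left]
    (i : HK ⟶ GK) (hi : AlgGrp.IsKernel i lam') (t : (Over.map g).obj HK ⟶ H)
    (ht : t ≫ j = dn g (i ≫ θ.hom)) (hpb : IsPullback t.left HK.hom H.hom g) :
    ∃ b : B'.left ⟶ M.left, IsPullback b B'.hom M.hom g ∧
      lam'.left ≫ b = (θ.hom.left ≫ pullback.fst G.hom g) ≫ q.left := by
  let qK : Red.bc g G ⟶ Red.bc g M := (Over.pullback g).map q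
  let f1 : GK ⟶ Red.bc g M := θ.hom ≫ qK
  have hq1 : Surjective qK.left := K509.Basic.map_left_of_stable @Surjective g q inferInstance
  have hq2 : Flat qK.left := K509.Basic.map_left_of_stable @Flat g q inferInstance
  have hq3 : QuasiCompact qK.left := K509.Basic.map_left_of_stable @QuasiCompact g q inferInstance
  have hθ : IsIso θ.hom.left := inferInstanceAs (IsIso ((Over.forget T).map θ.hom))
  have hf1 : Surjective f1.left := by rw [Over.comp_left]; infer_instance
  have hf2 : Flat f1.left := by rw [Over.comp_left]; infer_instance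
  have hf3 : QuasiCompact f1.left := by rw [Over.comp_left]; infer_instance
  have hD : ∀ {T' : Over T} (x y : T' ⟶ GK), dn g ((x * y⁻¹) ≫ θ.hom) =
      dn g (x ≫ θ.hom) * (dn g (y ≫ θ.hom))⁻¹ := by
    intro T' x y
    rw [MonObj.mul_comp, GrpObj.inv_comp, dn_mul, dn_inv]
  have hiff : ∀ {T' : Over T} (x y : T' ⟶ GK), x ≫ f1 = y ≫ f1 ↔
      ∃ c : (Over.map g).obj T' ⟶ H, c ≫ j = dn g ((x * y⁻¹) ≫ θ.hom) := by
    intro T' x y
    rw [hD, ← hq, ← dn_map, ← dn_map, Category.assoc, Category.assoc]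
    exact ⟨fun h => congrArg _ h, fun h => dn_injective g h⟩
  have h12 : ∀ (T' : Over T) (x y : T' ⟶ GK), x ≫ lam' = y ≫ lam' → x ≫ f1 = y ≫ f1 := by
    intro T' x y hxy
    obtain ⟨z, hz⟩ := K404.Desc.exists_lift_ker hi (x * y⁻¹) (by
      rw [MonObj.mul_comp, GrpObj.inv_comp, hxy, mul_inv_cancel])
    rw [hiff]
    refine ⟨(Over.map g).map z ≫ t, ?_⟩
    rw [Category.assoc, ht, dn_comp, ← Category.assoc, hz]
  have h21 : ∀ (T' : Over T) (x y : T' ⟶ GK), x ≫ f1 = y ≫ f1 → x ≫ lam' = y ≫ lam' := by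
    intro T' x y hxy
    obtain ⟨c, hc⟩ := (hiff x y).mp hxy
    have hw : c.left ≫ H.hom = T'.hom ≫ g := Over.w c
    let z : T' ⟶ HK := Over.homMk (hpb.lift c.left T'.hom hw) (hpb.lift_snd _ _ _)
    have hz : (Over.map g).map z ≫ t = c := by
      ext1
      exact hpb.lift_fst _ _ _
    have h1 : dn g ((z ≫ i) ≫ θ.hom) = dn g ((x * y⁻¹) ≫ θ.hom) := by
      rw [← hc, ← hz, Category.assoc, Category.assoc, ht, dn_comp]
    have h2 : z ≫ i = x * y⁻¹ := by
      rw [← cancel_mono θ.hom]
      exact dn_injective g h1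
    have h3 := K404.Desc.ker_comp hi z
    rw [h2, MonObj.mul_comp, GrpObj.inv_comp] at h3
    exact mul_inv_eq_one.mp h3
  obtain ⟨b1, hb1⟩ := K404.Desc.exists_desc lam' f1 h12
  obtain ⟨b2, hb2⟩ := K404.Desc.exists_desc f1 lam' h21
  have he1 : Epi lam' := K404.Desc.epi_of lam'
  have he2 : Epi f1 := K404.Desc.epi_of f1
  let e : B' ≅ Red.bc g M :=
    { hom := b1
      inv := b2
      hom_inv_id := by rw [← cancel_epi lam', reassoc_of% hb1, hb2, Category.comp_id]
      inv_hom_id := by rw [← cancel_epi f1, reassoc_of% hb2, hb1, Category.comp_id] }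
  have hb1w : b1.left ≫ pullback.snd M.hom g = B'.hom := Over.w b1
  let e' : B'.left ≅ pullback M.hom g := (Over.forget T).mapIso e
  refine ⟨b1.left ≫ pullback.fst M.hom g, ?_, ?_⟩
  · refine IsPullback.of_iso_pullback ⟨?_⟩ e' rfl hb1w
    rw [Category.assoc, pullback.condition, reassoc_of% hb1w]
  · have h1 : lam'.left ≫ b1.left = θ.hom.left ≫ qK.left := by
      have := congrArg (fun z => Over.Hom.left z) hb1
      simpa [f1] using this
    have h2 : qK.left ≫ pullback.fst M.hom g = pullback.fst G.hom g ≫ q.left := pullback.lift_fst _ _ _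
    rw [← Category.assoc, h1, Category.assoc, h2, Category.assoc]

end compare

end K422.DenseSub
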