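import Groth.Agent.AbSch.K422.DenseSub
import Groth.Agent.Sga3C.QFlatOpen
import Groth.Agent.Sga3C.FlatPt
import Groth.Agent.GrpSch.K267.DeligneSch
import Groth.Agent.S7788
import Groth.Agent.AbSch.K258.AbBC
import Groth.Agent.GrpQ.H770.LocQS
import Groth.Prelude.Def_Pi1

/-!
# The generic point of an integral scheme, and closures of finite subgroups of the generic fibre

* `IsGenPt ξ` : `ξ : Spec K ⟶ S` is the generic point;
* `flat_at_of_codim_one` : a morphism to a normal Noetherian scheme which receives a schematically dominant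
  morphism from a scheme over the generic point is flat over the points of codimension at most one.
-/

set_option autoImplicit false
universe u

open CategoryTheory CategoryTheory.Limits AlgebraicGeometry MonObj MonoidalCategory
  CartesianMonoidalCategory GrpObj

namespace K422.GenPt

open K491.Closure Groth.Agent.Sga3C.SchemImage Groth.Agent.Sga3C.FlatPt

/-- `ξ` is the generic point of the integral scheme `S`, with the function field identified with `K`. -/
def IsGenPt {S : Scheme.{u}} [IsIntegral S] {K : Type u} [Field K] (ξ : Spec (CommRingCat.of K) ⟶ S) : Prop :=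
  ∃ e : S.functionField ≃+* K, ξ = Spec.map (CommRingCat.ofHom e.toRingHom) ≫ S.fromSpecStalk (genericPoint S)

section

variable {S : Scheme.{u}} [IsIntegral S] {K : Type u} [Field K] {ξ : Spec (CommRingCat.of K) ⟶ S}

theorem mono (hξ : IsGenPt ξ) : Mono ξ := by
  obtain ⟨e, rfl⟩ := hξ
  have h1 : IsIso (CommRingCat.ofHom e.toRingHom) := (RingEquiv.toCommRingCatIso e).isIso_hom
  infer_instance

theorem flat (hξ : IsGenPt ξ) : Flat ξ := by
  obtain ⟨e, rfl⟩ := hξ
  have h1 : IsIso (CommRingCat.ofHom e.toRingHom) := (RingEquiv.toCommRingCatIso e).isIso_hom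
  infer_instance

omit [IsIntegral S] in
theorem quasiCompact [IsNoetherian S] (ξ : Spec (CommRingCat.of K) ⟶ S) : QuasiCompact ξ := inferInstance

theorem apply (hξ : IsGenPt ξ) (p : Spec (CommRingCat.of K)) : ξ p = genericPoint S := by
  obtain ⟨e, rfl⟩ := hξ
  rw [Scheme.Hom.comp_apply]
  have h1 : Spec.map (CommRingCat.ofHom e.toRingHom) p = IsLocalRing.closedPoint S.functionField :=
    Subsingleton.elim _ _
  rw [h1]
  exact Scheme.fromSpecStalk_closedPoint

theorem dominant [IsNoetherian S] (hξ : IsGenPt ξ) : IsSchemeTheoreticallyDominant ξ := by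
  have h2 : IsDominant ξ := by
    constructor
    have h1 : closure {genericPoint S} ⊆ closure (Set.range ξ) := by
      apply closure_mono
      rintro _ rfl
      exact ⟨IsLocalRing.closedPoint K, apply hξ _⟩
    rw [genericPoint_closure] at h1
    exact dense_iff_closure_eq.mpr (Set.univ_subset_iff.mp h1)
  exact .of_isDominant ξ

/-- The generic point factors through the local schemes of `S`. -/
theorem exists_factor (hξ : IsGenPt ξ) (x : S) : ∃ (_ : Algebra (S.presheaf.stalk x) K),
    IsFractionRing (S.presheaf.stalk x) K ∧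
      Spec.map (CommRingCat.ofHom (algebraMap (S.presheaf.stalk x) K)) ≫ S.fromSpecStalk x = ξ := by
  obtain ⟨e, rfl⟩ := hξ
  let a : Algebra (S.presheaf.stalk x) K :=
    (e.toRingHom.comp (algebraMap (S.presheaf.stalk x) S.functionField)).toAlgebra
  refine ⟨a, ?_, ?_⟩
  · let e' : S.functionField ≃ₐ[S.presheaf.stalk x] K := AlgEquiv.ofRingEquiv (f := e) (fun r => rfl)
    exact IsLocalization.isLocalization_of_algEquiv _ e'
  · have hs : genericPoint S ⤳ x := (genericPoint_spec S).specializes (Set.mem_univ x)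
    have h1 : Spec.map (CommRingCat.ofHom (algebraMap (S.presheaf.stalk x) K)) =
        Spec.map (CommRingCat.ofHom e.toRingHom) ≫ Spec.map (S.presheaf.stalkSpecializes hs) := by
      rw [← Spec.map_comp]
      rfl
    rw [h1, Category.assoc, Scheme.SpecMap_stalkSpecializes_fromSpecStalk]

end

theorem isDedekindDomain_of_le (R : Type*) [CommRing R] [IsDomain R] [IsIntegrallyClosed R] [IsNoetherianRing R]
    (h : ringKrullDim R ≤ 1) : IsDedekindDomain R := by
  have h1 : Ring.KrullDimLE 1 R := Ring.krullDimLE_iff.mpr (by exact_mod_cast h)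
  have h2 : Ring.DimensionLEOne R := ⟨fun hp hp' => hp'.isMaximal_of_ne_bot hp⟩
  exact { }

/-- A scheme over a normal Noetherian integral scheme receiving a schematically dominant morphism from a scheme over
the generic point is flat over the points of codimension at most one. -/
theorem isFlatAt_of_dominant {S : Scheme.{u}} [IsIntegral S] [IsNoetherian S] (hS : Pi1.IsNormalScheme S)
    {K : Type u} [Field K] {ξ : Spec (CommRingCat.of K) ⟶ S} (hξ : IsGenPt ξ) {X Y : Scheme.{u}} (t : X ⟶ Y)
    [QuasiCompact t] [IsSchemeTheoreticallyDominant t] (ρ : Y ⟶ S) (p : X ⟶ Spec (CommRingCat.of K))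
    (h : t ≫ ρ = p ≫ ξ) (y : Y) (hy : ringKrullDim (S.presheaf.stalk (ρ y)) ≤ 1) : IsFlatAt ρ y := by
  obtain ⟨a, ha, hx⟩ := exists_factor hξ (ρ y)
  obtain ⟨h1, h2⟩ := hS (ρ y)
  have h3 : IsDedekindDomain (S.presheaf.stalk (ρ y)) := isDedekindDomain_of_le _ hy
  let g : Spec (S.presheaf.stalk (ρ y)) ⟶ S := S.fromSpecStalk (ρ y)
  have hgf : Flat g := flat_fromSpecStalk S (ρ y)
  let P := pullback ρ g
  let ξ' : Spec (CommRingCat.of K) ⟶ Spec (S.presheaf.stalk (ρ y)) :=
    Spec.map (CommRingCat.ofHom (algebraMap (S.presheaf.stalk (ρ y)) K))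
  have hx' : ξ' ≫ g = ξ := hx
  let t' : X ⟶ P := pullback.lift t (p ≫ ξ') (by rw [Category.assoc, hx', h])
  have ht : t' ≫ pullback.fst ρ g = t := pullback.lift_fst _ _ _
  obtain ⟨h4, h5⟩ := K422.DenseSub.dominant_lift t (pullback.fst ρ g) t' ht
  have h6 : Flat (pullback.snd ρ g) :=
    @flat_of_schemeDominant (S.presheaf.stalk (ρ y)) _ h3 K _ a ha _ _ t' h5 h4 (pullback.snd ρ g) p
      (pullback.lift_snd _ _ _)
  obtain ⟨z, hz, -⟩ := Scheme.Pullback.exists_preimage_pullback (f := ρ) (g := g) y
    (IsLocalRing.closedPoint (S.presheaf.stalk (ρ y))) Scheme.fromSpecStalk_closedPoint.symm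
  have h7 : IsFlatAt (pullback.fst ρ g ≫ ρ) z := by
    rw [pullback.condition]
    exact isFlatAt_of_flat _ _
  have h8 := IsFlatAt.of_comp (isFlatAt_of_flat (pullback.fst ρ g) z) h7
  rwa [hz] at h8

end K422.GenPt
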